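import Groth.Agent.GalCoh.K445.FieldTor
import Groth.Agent.Lefpen.H717.ConstRed
import Mathlib.GroupTheory.QuotientGroup.Defs
import Mathlib.Algebra.Group.Subgroup.ZPowers.Basic

/-!
# `0 → ℤ → ℚ → ℚ/ℤ → 0` on the étale site of a field
-/

set_option autoImplicit false

universe u

open CategoryTheory CategoryTheory.Limits AlgebraicGeometry Opposite Abelian

namespace K446.ConstQ

/-- `ℚ/ℤ`. -/
abbrev QZ : Type := ℚ ⧸ AddSubgroup.zmultiples (1 : ℚ)

/-- `ℤ → ℚ`, lifted. -/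
noncomputable def iZQ : AddCommGrpCat.of (ULift.{u + 1} ℤ) ⟶ AddCommGrpCat.of (ULift.{u + 1} ℚ) :=
  AddCommGrpCat.ofHom ((AddEquiv.ulift (α := ℚ)).symm.toAddMonoidHom.comp
    ((Int.castAddHom ℚ).comp (AddEquiv.ulift (α := ℤ)).toAddMonoidHom))

/-- `ℚ → ℚ/ℤ`, lifted. -/
noncomputable def pQ : AddCommGrpCat.of (ULift.{u + 1} ℚ) ⟶ AddCommGrpCat.of (ULift.{u + 1} QZ) :=
  AddCommGrpCat.ofHom ((AddEquiv.ulift (α := QZ)).symm.toAddMonoidHom.comp
    ((QuotientAddGroup.mk' (AddSubgroup.zmultiples (1 : ℚ))).comp (AddEquiv.ulift (α := ℚ)).toAddMonoidHom))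

theorem iZQ_apply (x : ULift.{u + 1} ℤ) : (iZQ.{u} x) = ULift.up ((x.down : ℤ) : ℚ) := rfl

theorem pQ_apply (x : ULift.{u + 1} ℚ) :
    (pQ.{u} x) = ULift.up (QuotientAddGroup.mk (s := AddSubgroup.zmultiples (1 : ℚ)) x.down) := rfl

theorem comp_zero_apply (x : ULift.{u + 1} ℤ) : pQ.{u} (iZQ.{u} x) = 0 := by
  rw [iZQ_apply, pQ_apply]
  apply ULift.down_injective
  show (QuotientAddGroup.mk (s := AddSubgroup.zmultiples (1 : ℚ)) ((x.down : ℤ) : ℚ)) = 0
  rw [QuotientAddGroup.eq_zero_iff]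
  exact ⟨x.down, by simp⟩

theorem comp_zero : iZQ.{u} ≫ pQ.{u} = 0 :=
  ConcreteCategory.hom_ext _ _ fun x => comp_zero_apply x

theorem exact_apply (x : ULift.{u + 1} ℚ) (h1 : pQ.{u} x = 0) : ∃ y : ULift.{u + 1} ℤ, iZQ.{u} y = x := by
  rw [pQ_apply] at h1
  have h2 : (QuotientAddGroup.mk (s := AddSubgroup.zmultiples (1 : ℚ)) x.down) = 0 :=
    congrArg ULift.down h1
  rw [QuotientAddGroup.eq_zero_iff] at h2
  obtain ⟨n, hn⟩ := h2
  refine ⟨ULift.up n, ?_⟩
  rw [iZQ_apply]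
  apply ULift.down_injective
  show (n : ℚ) = x.down
  rw [← hn]
  simp

theorem injective_apply (x y : ULift.{u + 1} ℤ) (h1 : iZQ.{u} x = iZQ.{u} y) : x = y := by
  rw [iZQ_apply, iZQ_apply] at h1
  have h2 : ((x.down : ℤ) : ℚ) = y.down := congrArg ULift.down h1
  exact ULift.down_injective (by exact_mod_cast h2)

/-- The short complex. -/
noncomputable def seq : ShortComplex AddCommGrpCat.{u + 1} := ShortComplex.mk iZQ.{u} pQ.{u} comp_zero

theorem seq_shortExact : (seq.{u}).ShortExact where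
  exact := by
    rw [ShortComplex.ab_exact_iff]
    exact fun x hx => exact_apply x hx
  mono_f := by
    rw [AddCommGrpCat.mono_iff_injective]
    exact fun x y h => injective_apply x y h
  epi_g := by
    rw [AddCommGrpCat.epi_iff_surjective]
    intro y
    obtain ⟨q, hq⟩ := QuotientAddGroup.mk_surjective (ULift.down y)
    exact ⟨ULift.up q, ULift.down_injective hq⟩

/-- Division by `n`. -/
noncomputable def divQ (n : ℕ) : ULift.{u + 1} ℚ →+ ULift.{u + 1} ℚ :=
  (AddEquiv.ulift (α := ℚ)).symm.toAddMonoidHom.comp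
      ((AddMonoidHom.mulLeft ((n : ℚ)⁻¹)).comp (AddEquiv.ulift (α := ℚ)).toAddMonoidHom)

theorem nsmul_divQ (n : ℕ) (hn : 0 < n) : n • divQ.{u} n = AddMonoidHom.id _ := by
  have hn' : (n : ℚ) ≠ 0 := by exact_mod_cast hn.ne'
  refine AddMonoidHom.ext fun x => ULift.down_injective ?_
  show n • ((n : ℚ)⁻¹ * x.down) = x.down
  rw [nsmul_eq_mul, mul_inv_cancel_left₀ hn']

theorem isIso_nsmul_Q (n : ℕ) (hn : 0 < n) : IsIso (n • 𝟙 (AddCommGrpCat.of (ULift.{u + 1} ℚ))) := by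
  let g : AddCommGrpCat.of (ULift.{u + 1} ℚ) ⟶ AddCommGrpCat.of (ULift.{u + 1} ℚ) :=
    AddCommGrpCat.ofHom (divQ.{u} n)
  have hg : n • g = 𝟙 _ := by
    apply AddCommGrpCat.hom_ext
    exact nsmul_divQ.{u} n hn
  refine ⟨g, ?_, ?_⟩
  · rw [Preadditive.nsmul_comp, Category.id_comp, hg]
  · rw [Preadditive.comp_nsmul, Category.comp_id, hg]

theorem isIso_nsmul_constQ (X : Scheme.{u}) (n : ℕ) (hn : 0 < n) :
    IsIso (n • 𝟙 (EtCoh.const X ℚ)) := by
  have := Groth.Agent.Lefpen.H717.ConstRed.preservesFiniteLimits_constantSheaf X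
  have := Groth.Agent.Lefpen.H717.ConstRed.additive_constantSheaf X
  have e : (constantSheaf X.smallEtaleTopology AddCommGrpCat.{u + 1}).map
      (n • 𝟙 (AddCommGrpCat.of (ULift.{u + 1} ℚ))) = n • 𝟙 (EtCoh.const X ℚ) := by
    rw [Functor.map_nsmul, CategoryTheory.Functor.map_id]
  rw [← e]
  have := isIso_nsmul_Q.{u} n hn
  infer_instance

/-- The connecting map is bijective in the relevant degrees. -/
theorem nonempty_equiv (k : Type u) [Field k] (q : ℕ) (hq : 0 < q) :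
    Nonempty (EtCoh.H (Spec (CommRingCat.of k)) (EtCoh.const (Spec (CommRingCat.of k)) QZ) q ≃+
      EtCoh.H (Spec (CommRingCat.of k)) (EtCoh.const (Spec (CommRingCat.of k)) ℤ) (q + 1)) := by
  have := Groth.Agent.Lefpen.H717.ConstRed.preservesFiniteLimits_constantSheaf (Spec (CommRingCat.of k))
  have := Groth.Agent.Lefpen.H717.ConstRed.preservesFiniteColimits_constantSheaf
    (Spec (CommRingCat.of k))
  have := Groth.Agent.Lefpen.H717.ConstRed.additive_constantSheaf (Spec (CommRingCat.of k))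
  have hS := seq_shortExact.{u}.map_of_exact
    (constantSheaf (Spec (CommRingCat.of k)).smallEtaleTopology AddCommGrpCat.{u + 1})
  have hQ : ∀ j : ℕ, 0 < j → Subsingleton (EtCoh.H (Spec (CommRingCat.of k))
      (EtCoh.const (Spec (CommRingCat.of k)) ℚ) j) := fun j hj =>
    K445.FieldTor.subsingleton_H_of_isIso _ (fun n hn => isIso_nsmul_constQ _ n hn) hj
  let δ := hS.extClass.postcomp (EtCoh.const (Spec (CommRingCat.of k)) ℤ) (rfl : q + 1 = q + 1)
  have h1 : Function.Injective δ := by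
    refine (injective_iff_map_eq_zero δ).2 fun x hx => ?_
    obtain ⟨y, rfl⟩ := Ext.covariant_sequence_exact₃ _ hS x rfl hx
    have hy : y = 0 := @Subsingleton.elim _ (hQ q hq) _ _
    rw [hy, Ext.zero_comp]
  have h2 : Function.Surjective δ := fun x =>
    Ext.covariant_sequence_exact₁ _ hS x (@Subsingleton.elim _ (hQ (q + 1) (Nat.succ_pos q)) _ _) rfl
  exact ⟨AddEquiv.ofBijective δ ⟨h1, h2⟩⟩

end K446.ConstQ
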