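import Mathlib.RingTheory.Artinian.Module
import Mathlib.RingTheory.Jacobson.Radical
import Mathlib.RingTheory.SimpleModule.Basic
import Mathlib.LinearAlgebra.TensorProduct.Basis
import Mathlib.LinearAlgebra.FiniteDimensional.Basic
import Mathlib.LinearAlgebra.FiniteDimensional.Lemmas
import Mathlib.LinearAlgebra.Projection
import Mathlib.LinearAlgebra.TensorProduct.Tower
import Mathlib.LinearAlgebra.FreeModule.Finite.Matrix
import Mathlib.Algebra.Module.Torsion.Basic

/-!
# Cyclic modules over finite-dimensional algebras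

A finite-dimensional module `M` over a finite-dimensional algebra `A` such that
`dim Hom_A(M, T) ≤ dim T` for every simple module `T` is cyclic.
-/

set_option autoImplicit false

open Module

namespace K446.Cyclic

universe u v w

variable {k : Type u} {A : Type v} [Field k] [Ring A] [Algebra k A]

theorem exists_hom_of_annihilator {M : Type w} [AddCommGroup M] [Module A M] {T : Type*} [AddCommGroup T]
    [Module A T] (b : M) (C : Submodule A M) (hC : IsCompl (A ∙ b) C) (t : T)
    (hann : ∀ a : A, a • b = 0 → a • t = 0) :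
    ∃ f : M →ₗ[A] T, (∀ x ∈ C, f x = 0) ∧ f b = t := by
  let q : (A ⧸ Ideal.torsionOf A M b) →ₗ[A] T :=
    Submodule.liftQ _ (LinearMap.toSpanSingleton A T t) (fun a ha => hann a ha)
  let g : (A ∙ b) →ₗ[A] T := q ∘ₗ (Ideal.quotTorsionOfEquivSpanSingleton A M b).symm.toLinearMap
  refine ⟨g ∘ₗ Submodule.projectionOnto _ _ hC, fun x hx => ?_, ?_⟩
  · rw [LinearMap.comp_apply, (Submodule.projectionOnto_apply_eq_zero_iff hC).mpr hx, map_zero]
  · have hb : b ∈ (A ∙ b) := Submodule.mem_span_singleton_self b
    rw [LinearMap.comp_apply, Submodule.projectionOnto_apply_of_mem_left hC hb]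
    have h1 : (Ideal.quotTorsionOfEquivSpanSingleton A M b).symm ⟨b, hb⟩ =
        Submodule.Quotient.mk 1 := by
      rw [LinearEquiv.symm_apply_eq]
      apply Subtype.ext
      rw [Ideal.quotTorsionOfEquivSpanSingleton_apply_mk]
      exact (one_smul A b).symm
    show q ((Ideal.quotTorsionOfEquivSpanSingleton A M b).symm ⟨b, hb⟩) = t
    rw [h1]
    exact one_smul A t

section Semisimple

variable {M : Type w} [AddCommGroup M] [Module A M] [Module k M] [IsScalarTower k A M]
  [FiniteDimensional k M]

theorem finrank_lt (b : M) (T C C' : Submodule A M) (hC : IsCompl (A ∙ b) C) (hTC : T ≤ C)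
    (hC' : IsCompl T C') (hT : T ≠ ⊥) (hann : ∀ a : A, a • b = 0 → ∀ t ∈ T, a • t = 0) :
    finrank k T < finrank k (M →ₗ[A] T) := by
  classical
  have hTf : FiniteDimensional k T :=
    FiniteDimensional.finiteDimensional_submodule (T.restrictScalars k)
  have hfin : FiniteDimensional k (M →ₗ[A] T) :=
    FiniteDimensional.of_injective (LinearMap.restrictScalarsₗ k A M T k)
      (LinearMap.restrictScalars_injective k)
  let S : Submodule k (M →ₗ[A] T) :=
    { carrier := {f | ∀ x ∈ T, f x = 0}
      add_mem' := fun {f g} hf hg x hx => by rw [LinearMap.add_apply, hf x hx, hg x hx, add_zero]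
      zero_mem' := fun x _ => rfl
      smul_mem' := fun c f hf x hx => by rw [LinearMap.smul_apply, hf x hx, smul_zero] }
  have hS : S ≠ ⊤ := by
    intro h
    have h1 : Submodule.projectionOnto T C' hC' ∈ S := by rw [h]; trivial
    apply hT
    rw [eq_bot_iff]
    intro t ht
    have h2 := h1 t ht
    rw [Submodule.projectionOnto_apply_of_mem_left hC' ht] at h2
    exact congrArg Subtype.val h2
  let ev : S →ₗ[k] T :=
    { toFun := fun f => f.1 b
      map_add' := fun f g => rfl
      map_smul' := fun c f => rfl }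
  have hev : Function.Surjective ev := by
    intro t
    obtain ⟨f, hf, hfb⟩ := exists_hom_of_annihilator b C hC t
      (fun a ha => Subtype.ext (hann a ha t t.2))
    exact ⟨⟨f, fun x hx => hf x (hTC hx)⟩, hfb⟩
  calc finrank k T ≤ finrank k S := LinearMap.finrank_le_finrank_of_surjective hev
    _ < finrank k (M →ₗ[A] T) := Submodule.finrank_lt hS

theorem exists_generator_of_semisimple [IsSemisimpleModule A M]
    (h : ∀ T : Submodule A M, IsSimpleModule A T → finrank k (M →ₗ[A] T) ≤ finrank k T) :
    ∃ b : M, (A ∙ b) = ⊤ := by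
  classical
  -- choose `b` with `dim (A b)` maximal
  have hbd : ∀ b : M, finrank k (A ∙ b) ≤ finrank k M := fun b =>
    Submodule.finrank_le ((A ∙ b).restrictScalars k)
  obtain ⟨b, hb⟩ : ∃ b : M, ∀ b' : M, finrank k (A ∙ b') ≤ finrank k (A ∙ b) := by
    have hne : (Set.range fun b : M => finrank k (A ∙ b)).Nonempty := ⟨_, ⟨0, rfl⟩⟩
    have hbdd : BddAbove (Set.range fun b : M => finrank k (A ∙ b)) :=
      ⟨finrank k M, by rintro _ ⟨b, rfl⟩; exact hbd b⟩
    obtain ⟨b, hb⟩ := Nat.sSup_mem hne hbdd
    exact ⟨b, fun b' => by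
      rw [show finrank k (A ∙ b) = _ from hb]
      exact le_csSup hbdd ⟨b', rfl⟩⟩
  refine ⟨b, ?_⟩
  by_contra hne
  obtain ⟨C, hC⟩ := exists_isCompl (A ∙ b)
  have hC0 : C ≠ ⊥ := by
    rintro rfl
    apply hne
    have := hC.codisjoint
    rwa [codisjoint_bot] at this
  obtain ⟨T, hTa, hTC⟩ := (eq_bot_or_exists_atom_le C).resolve_left hC0
  have hTs : IsSimpleModule A T := isSimpleModule_iff_isAtom.mpr hTa
  obtain ⟨C', hC'⟩ := exists_isCompl T
  refine absurd (h T hTs) (not_le.mpr (finrank_lt b T C C' hC hTC hC' hTa.1 ?_))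
  intro a ha t ht
  by_contra hat
  -- `A (b + t)` is bigger
  have h1 : a • (b + t) = a • t := by rw [smul_add, ha, zero_add]
  have h2 : a • t ∈ (A ∙ (b + t)) := by
    rw [← h1]
    exact Submodule.smul_mem _ _ (Submodule.mem_span_singleton_self _)
  have h3 : T ≤ (A ∙ (b + t)) := by
    have h4 : (A ∙ (a • t)) = T := by
      have h5 : (A ∙ (a • t)) ≤ T := by
        rw [Submodule.span_singleton_le_iff_mem]
        exact T.smul_mem _ ht
      refine (hTa.le_iff_eq ?_).mp h5
      intro h0
      rw [Submodule.span_singleton_eq_bot] at h0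
      exact hat h0
    rw [← h4, Submodule.span_singleton_le_iff_mem]
    exact h2
  have h6 : (A ∙ b) ≤ (A ∙ (b + t)) := by
    rw [Submodule.span_singleton_le_iff_mem]
    have := Submodule.sub_mem _ (Submodule.mem_span_singleton_self (b + t)) (h3 ht)
    rwa [add_sub_cancel_right] at this
  have h7 : (A ∙ b) < (A ∙ (b + t)) := by
    refine lt_of_le_of_ne h6 ?_
    intro heq
    have h8 : T ≤ (A ∙ b) := by rw [heq]; exact h3
    have h9 : T ≤ ⊥ := hC.disjoint h8 hTC
    exact hTa.1 (le_bot_iff.mp h9)
  have h10 : finrank k (A ∙ b) < finrank k (A ∙ (b + t)) := by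
    have h11 : ((A ∙ b).restrictScalars k) < ((A ∙ (b + t)).restrictScalars k) := h7
    exact Submodule.finrank_lt_finrank_of_lt h11
  exact absurd (hb (b + t)) (not_le.mpr h10)

end Semisimple

theorem finrank_hom_le {M : Type w} [AddCommGroup M] [Module A M] [Module k M] [IsScalarTower k A M]
    [FiniteDimensional k M] (J : Submodule A M) (T : Type w) [AddCommGroup T] [Module A T] [Module k T]
    [IsScalarTower k A T] [FiniteDimensional k T] :
    finrank k ((M ⧸ J) →ₗ[A] T) ≤ finrank k (M →ₗ[A] T) := by
  have hfin : FiniteDimensional k (M →ₗ[A] T) :=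
    FiniteDimensional.of_injective (LinearMap.restrictScalarsₗ k A M T k)
      (LinearMap.restrictScalars_injective k)
  let F : ((M ⧸ J) →ₗ[A] T) →ₗ[k] (M →ₗ[A] T) :=
    { toFun := fun f => f ∘ₗ J.mkQ
      map_add' := fun f g => rfl
      map_smul' := fun c f => rfl }
  have hF : Function.Injective F := by
    intro f g hfg
    apply LinearMap.ext
    intro x
    obtain ⟨y, rfl⟩ := J.mkQ_surjective x
    exact LinearMap.congr_fun hfg y
  exact LinearMap.finrank_le_finrank_of_injective hF

/-- **Main criterion.**  If `dim Hom_A(M, T) ≤ dim T` for all simple `T` then `M` is cyclic. -/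
theorem exists_generator {M : Type w} [AddCommGroup M] [Module A M] [Module k M] [IsScalarTower k A M]
    [FiniteDimensional k M]
    (h : ∀ (T : Type w) [AddCommGroup T] [Module A T] [Module k T] [IsScalarTower k A T]
      [FiniteDimensional k T], IsSimpleModule A T → finrank k (M →ₗ[A] T) ≤ finrank k T) :
    ∃ b : M, (A ∙ b) = ⊤ := by
  classical
  let J := Module.jacobson A M
  have hAr : IsArtinian A M := isArtinian_of_tower k inferInstance
  have hNo : IsNoetherian A M := isNoetherian_of_tower k inferInstance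
  have hArq : IsArtinian A (M ⧸ J) := inferInstance
  have hss : IsSemisimpleModule A (M ⧸ J) :=
    (IsArtinian.isSemisimpleModule_iff_jacobson A (M ⧸ J)).mpr (Module.jacobson_quotient_jacobson A M)
  have hfq : FiniteDimensional k (M ⧸ J) :=
    FiniteDimensional.of_surjective (J.mkQ.restrictScalars k) J.mkQ_surjective
  obtain ⟨c, hc⟩ := exists_generator_of_semisimple (k := k) (A := A) (M := M ⧸ J) (fun T hT => by
    have hTf : FiniteDimensional k T :=
      FiniteDimensional.finiteDimensional_submodule (T.restrictScalars k)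
    exact le_trans (finrank_hom_le J T) (h T hT))
  obtain ⟨b, rfl⟩ := J.mkQ_surjective c
  refine ⟨b, ?_⟩
  by_contra hne
  obtain ⟨m, hm, hbm⟩ := (eq_top_or_exists_le_coatom (A ∙ b)).resolve_left hne
  have hJm : J ≤ m := sInf_le hm
  apply hm.1
  rw [eq_top_iff]
  intro x _
  have h1 : J.mkQ x ∈ (A ∙ (J.mkQ b)) := by rw [hc]; trivial
  obtain ⟨a, ha⟩ := Submodule.mem_span_singleton.mp h1
  rw [← map_smul] at ha
  have h2 : a • b - x ∈ J := by
    rw [← Submodule.Quotient.mk_eq_zero]
    show J.mkQ (a • b - x) = 0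
    rw [map_sub, ha, sub_self]
  have h3 : a • b ∈ m := m.smul_mem _ (hbm (Submodule.mem_span_singleton_self b))
  have h4 := m.sub_mem h3 (hJm h2)
  rwa [sub_sub_cancel] at h4

end K446.Cyclic
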