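import Mathlib.Data.ZMod.Basic
import Mathlib.LinearAlgebra.Matrix.GeneralLinearGroup.Defs
import Mathlib.LinearAlgebra.Matrix.GeneralLinearGroup.Card
import Mathlib.Algebra.Ring.Subring.Basic
import Mathlib.Algebra.Field.IsField
import Mathlib.FieldTheory.Finite.GaloisField
import Mathlib.GroupTheory.Perm.Cycle.Type
import Mathlib.LinearAlgebra.Matrix.ToLinearEquiv
import Mathlib.RingTheory.Norm.Defs
import Mathlib.LinearAlgebra.Matrix.CharP

/-!
# Subgroups of `GL₂(𝔽_p)` containing a non-split Cartan subgroup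
-/

set_option autoImplicit false

open Matrix

namespace K446.GL2p

variable {p : ℕ} [Fact p.Prime]

local notation "M2" => Matrix (Fin 2) (Fin 2) (ZMod p)
local notation "GL2" => GL (Fin 2) (ZMod p)

theorem mulVec_eq_zero (g : GL2) (v : Fin 2 → ZMod p) (h : (g : M2) *ᵥ v = 0) : v = 0 := by
  have : ((g⁻¹ : GL2) : M2) *ᵥ ((g : M2) *ᵥ v) = v := by
    rw [Matrix.mulVec_mulVec, ← Units.val_mul, inv_mul_cancel, Units.val_one, Matrix.one_mulVec]
  rw [← this, h, Matrix.mulVec_zero]

theorem bijective_mulVec (C : Subgroup GL2) (E : Subring M2) (hcard : Nat.card E = p ^ 2)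
    (hE : (E : Set M2) = insert 0 ((fun g : GL2 => (g : M2)) '' (C : Set GL2)))
    (v : Fin 2 → ZMod p) (hv : v ≠ 0) :
    Function.Bijective (fun x : E => (x : M2) *ᵥ v) := by
  have hfin : Finite E := inferInstance
  rw [Nat.bijective_iff_injective_and_card]
  constructor
  · intro x y hxy
    by_contra hne
    have h1 : ((x : M2) - (y : M2)) *ᵥ v = 0 := by
      rw [Matrix.sub_mulVec]
      exact sub_eq_zero.mpr hxy
    have h2 : (x : M2) - (y : M2) ∈ (E : Set M2) := E.sub_mem x.2 y.2
    rw [hE] at h2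
    rcases h2 with h2 | ⟨g, -, hg⟩
    · exact hne (Subtype.ext (sub_eq_zero.mp h2))
    · rw [← hg] at h1
      exact hv (mulVec_eq_zero g v h1)
  · rw [hcard]
    simp

theorem transitive (C : Subgroup GL2) (E : Subring M2) (hcard : Nat.card E = p ^ 2)
    (hE : (E : Set M2) = insert 0 ((fun g : GL2 => (g : M2)) '' (C : Set GL2)))
    (v w : Fin 2 → ZMod p) (hv : v ≠ 0) (hw : w ≠ 0) : ∃ c ∈ C, (c : M2) *ᵥ v = w := by
  obtain ⟨x, hx⟩ := (bijective_mulVec C E hcard hE v hv).2 w
  have hx' : (x : M2) *ᵥ v = w := hx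
  have h2 : (x : M2) ∈ (E : Set M2) := x.2
  rw [hE] at h2
  rcases h2 with h2 | ⟨g, hgC, hg⟩
  · rw [h2, Matrix.zero_mulVec] at hx'
    exact absurd hx'.symm hw
  · refine ⟨g, hgC, ?_⟩
    rw [← hx', ← hg]

/-- Every element of order `p` has a nonzero fixed vector. -/
theorem exists_fixed (u : GL2) (hu : u ^ p = 1) : ∃ v ≠ 0, (u : M2) *ᵥ v = v := by
  have h0 : ((u : M2) - 1) ^ p = 0 := by
    rw [sub_pow_char_of_commute p (Commute.one_right _), ← Units.val_pow_eq_pow_val, hu]
    simp
  have h1 : ((u : M2) - 1).det = 0 := by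
    have h2 := congrArg Matrix.det h0
    rw [Matrix.det_pow, Matrix.det_zero] at h2
    exact pow_eq_zero_iff (Fact.out : p.Prime).ne_zero |>.mp h2
  obtain ⟨v, hv, hv2⟩ := Matrix.exists_mulVec_eq_zero_iff.mpr h1
  refine ⟨v, hv, ?_⟩
  rw [Matrix.sub_mulVec, Matrix.one_mulVec] at hv2
  exact sub_eq_zero.mp hv2

theorem det_eq_one (u : GL2) (hu : u ^ p = 1) : (u : M2).det = 1 := by
  have h2 := congrArg (fun g : GL2 => (g : M2).det) hu
  simp only [Units.val_pow_eq_pow_val, Matrix.det_pow, Units.val_one, Matrix.det_one,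
    ZMod.pow_card] at h2
  exact h2

theorem exists_order_p_fixing (H C : Subgroup GL2) (hCH : C ≤ H) (E : Subring M2)
    (hcard : Nat.card E = p ^ 2)
    (hE : (E : Set M2) = insert 0 ((fun g : GL2 => (g : M2)) '' (C : Set GL2)))
    (hp : p ∣ Nat.card H) (w : Fin 2 → ZMod p) (hw : w ≠ 0) :
    ∃ u ∈ H, u ^ p = 1 ∧ u ≠ 1 ∧ (u : M2) *ᵥ w = w := by
  obtain ⟨u, hu⟩ := exists_prime_orderOf_dvd_card' (G := H) p hp
  have hu1 : (u : GL2) ^ p = 1 := by
    have := pow_orderOf_eq_one u
    rw [hu] at this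
    exact congrArg Subtype.val this
  have hu2 : (u : GL2) ≠ 1 := by
    intro h
    have : u = 1 := Subtype.ext h
    rw [this, orderOf_one] at hu
    exact (Fact.out : p.Prime).one_lt.ne hu
  obtain ⟨v, hv, hv2⟩ := exists_fixed (u : GL2) hu1
  obtain ⟨c, hc, hcv⟩ := transitive C E hcard hE v w hv hw
  refine ⟨c * u * c⁻¹, H.mul_mem (H.mul_mem (hCH hc) u.2) (H.inv_mem (hCH hc)), ?_, ?_, ?_⟩
  · rw [conj_pow, hu1, mul_one, mul_inv_cancel]
  · intro h
    rw [mul_inv_eq_one, mul_eq_left] at h
    exact hu2 h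
  · rw [← hcv, Matrix.mulVec_mulVec, ← Units.val_mul, inv_mul_cancel_right, Units.val_mul,
      ← Matrix.mulVec_mulVec, hv2]

/-- Upper unipotent. -/
def U (x : ZMod p) : GL2 where
  val := !![1, x; 0, 1]
  inv := !![1, -x; 0, 1]
  val_inv := by ext i j; fin_cases i <;> fin_cases j <;> simp [Matrix.mul_apply, Fin.sum_univ_two]
  inv_val := by ext i j; fin_cases i <;> fin_cases j <;> simp [Matrix.mul_apply, Fin.sum_univ_two]

/-- Lower unipotent. -/
def L (x : ZMod p) : GL2 where
  val := !![1, 0; x, 1]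
  inv := !![1, 0; -x, 1]
  val_inv := by ext i j; fin_cases i <;> fin_cases j <;> simp [Matrix.mul_apply, Fin.sum_univ_two]
  inv_val := by ext i j; fin_cases i <;> fin_cases j <;> simp [Matrix.mul_apply, Fin.sum_univ_two]

theorem U_mul (x y : ZMod p) : U x * U y = U (x + y) := by
  ext i j
  fin_cases i <;> fin_cases j <;> simp [U, Matrix.mul_apply, Fin.sum_univ_two, add_comm]

theorem L_mul (x y : ZMod p) : L x * L y = L (x + y) := by
  ext i j
  fin_cases i <;> fin_cases j <;> simp [L, Matrix.mul_apply, Fin.sum_univ_two]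

theorem U_zero : U (0 : ZMod p) = 1 := by
  ext i j
  fin_cases i <;> fin_cases j <;> simp [U]

theorem L_zero : L (0 : ZMod p) = 1 := by
  ext i j
  fin_cases i <;> fin_cases j <;> simp [L]

theorem U_pow (x : ZMod p) (n : ℕ) : U x ^ n = U ((n : ZMod p) * x) := by
  induction n with
  | zero => rw [pow_zero, Nat.cast_zero, zero_mul, U_zero]
  | succ n ih => rw [pow_succ, ih, U_mul, Nat.cast_succ, add_mul, one_mul]

theorem L_pow (x : ZMod p) (n : ℕ) : L x ^ n = L ((n : ZMod p) * x) := by
  induction n with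
  | zero => rw [pow_zero, Nat.cast_zero, zero_mul, L_zero]
  | succ n ih => rw [pow_succ, ih, L_mul, Nat.cast_succ, add_mul, one_mul]

theorem U_mem (H : Subgroup GL2) (b : ZMod p) (hb : b ≠ 0) (h : U b ∈ H) (x : ZMod p) : U x ∈ H := by
  have h1 := H.pow_mem h (x / b).val
  rwa [U_pow, ZMod.natCast_val, ZMod.cast_id, div_mul_cancel₀ x hb] at h1

theorem L_mem (H : Subgroup GL2) (b : ZMod p) (hb : b ≠ 0) (h : L b ∈ H) (x : ZMod p) : L x ∈ H := by
  have h1 := H.pow_mem h (x / b).val
  rwa [L_pow, ZMod.natCast_val, ZMod.cast_id, div_mul_cancel₀ x hb] at h1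

theorem SL_mem (H : Subgroup GL2) (hU : ∀ x : ZMod p, U x ∈ H) (hL : ∀ x : ZMod p, L x ∈ H)
    (g : GL2) (hg : (g : M2).det = 1) : g ∈ H := by
  have key : ∀ g : GL2, (g : M2).det = 1 → (g : M2) 1 0 ≠ 0 → g ∈ H := by
    intro g hg hc
    have : g = U (((g : M2) 0 0 - 1) / (g : M2) 1 0) * L ((g : M2) 1 0) *
        U (((g : M2) 1 1 - 1) / (g : M2) 1 0) := by
      rw [Matrix.det_fin_two] at hg
      ext i j
      fin_cases i <;> fin_cases j
      · simp [U, L, Matrix.mul_apply, Fin.sum_univ_two]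
        field_simp
        ring
      · simp [U, L, Matrix.mul_apply, Fin.sum_univ_two]
        field_simp
        linear_combination -hg
      · simp [U, L, Matrix.mul_apply, Fin.sum_univ_two]
      · simp [U, L, Matrix.mul_apply, Fin.sum_univ_two]
        field_simp
        ring
    rw [this]
    exact H.mul_mem (H.mul_mem (hU _) (hL _)) (hU _)
  by_cases hc : (g : M2) 1 0 = 0
  · have h1 : L 1 * g ∈ H := by
      apply key
      · rw [Units.val_mul, Matrix.det_mul, hg]
        simp [L, Matrix.det_fin_two]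
      · simp only [L, Units.val_mul, Matrix.mul_apply, Fin.sum_univ_two]
        rw [Matrix.det_fin_two, hc, mul_zero, sub_zero] at hg
        simp [hc]
        intro h0
        rw [h0, zero_mul] at hg
        exact zero_ne_one hg
    have h2 := H.mul_mem (H.inv_mem (hL 1)) h1
    rwa [inv_mul_cancel_left] at h2
  · exact key g hg hc


/-- The determinant is surjective on a subring of `M₂(𝔽_p)` which is a field with `p ^ 2` elements. -/
theorem exists_det_eq (C : Subgroup GL2) (E : Subring M2) (hfield : IsField E)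
    (hcard : Nat.card E = p ^ 2)
    (hE : (E : Set M2) = insert 0 ((fun g : GL2 => (g : M2)) '' (C : Set GL2)))
    (d : ZMod p) : ∃ x ∈ E, (x : M2).det = d := by
  let E' : Subalgebra (ZMod p) M2 :=
    { E with
      algebraMap_mem' := fun r => by
        have : algebraMap (ZMod p) M2 r = ((r.val : ℕ) : M2) := by
          rw [← map_natCast (algebraMap (ZMod p) M2), ZMod.natCast_zmod_val]
        rw [this]
        exact natCast_mem E _ }
  letI : Field E' := IsField.toField (R := E') hfield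
  let v : Fin 2 → ZMod p := ![1, 0]
  have hv : v ≠ 0 := by
    intro h
    have := congrFun h 0
    simp [v] at this
  have hb : Function.Bijective (fun x : E' => (x : M2) *ᵥ v) := bijective_mulVec C E hcard hE v hv
  let e : E' ≃ₗ[ZMod p] (Fin 2 → ZMod p) := LinearEquiv.ofBijective
    { toFun := fun x : E' => (x : M2) *ᵥ v
      map_add' := fun x y => Matrix.add_mulVec _ _ _
      map_smul' := fun c x => Matrix.smul_mulVec _ _ _ } hb
  obtain ⟨x, hx⟩ := FiniteField.norm_surjective (ZMod p) E' d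
  refine ⟨x, x.2, ?_⟩
  rw [← hx, Algebra.norm_apply, ← LinearMap.det_conj _ e, ← LinearMap.det_toLin']
  congr 1
  refine LinearMap.ext fun w => ?_
  obtain ⟨y, rfl⟩ := e.surjective w
  show (x : M2) *ᵥ ((y : M2) *ᵥ v) = e (x * e.symm (e y))
  rw [LinearEquiv.symm_apply_apply, Matrix.mulVec_mulVec]
  rfl

theorem eq_top (H C : Subgroup GL2) (hCH : C ≤ H) (E : Subring M2) (hfield : IsField E)
    (hcard : Nat.card E = p ^ 2)
    (hE : (E : Set M2) = insert 0 ((fun g : GL2 => (g : M2)) '' (C : Set GL2)))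
    (hp : p ∣ Nat.card H) : H = ⊤ := by
  have hU : ∀ x : ZMod p, U x ∈ H := by
    obtain ⟨u, huH, hup, hu1, huv⟩ := exists_order_p_fixing H C hCH E hcard hE hp ![1, 0] (by
      intro h
      have := congrFun h 0
      simp at this)
    have hd := det_eq_one u hup
    rw [Matrix.det_fin_two] at hd
    have h0 := congrFun huv 0
    have h1 := congrFun huv 1
    simp [Matrix.mulVec, dotProduct, Fin.sum_univ_two] at h0 h1
    rw [h0, h1, one_mul, mul_zero, sub_zero] at hd
    have hu : u = U ((u : M2) 0 1) := by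
      ext i j
      fin_cases i <;> fin_cases j <;> simp [U, h0, h1, hd]
    refine U_mem H ((u : M2) 0 1) ?_ (hu ▸ huH)
    intro h
    rw [h, U_zero] at hu
    exact hu1 hu
  have hL : ∀ x : ZMod p, L x ∈ H := by
    obtain ⟨u, huH, hup, hu1, huv⟩ := exists_order_p_fixing H C hCH E hcard hE hp ![0, 1] (by
      intro h
      have := congrFun h 1
      simp at this)
    have hd := det_eq_one u hup
    rw [Matrix.det_fin_two] at hd
    have h0 := congrFun huv 0
    have h1 := congrFun huv 1
    simp [Matrix.mulVec, dotProduct, Fin.sum_univ_two] at h0 h1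
    rw [h0, h1, mul_one, zero_mul, sub_zero] at hd
    have hu : u = L ((u : M2) 1 0) := by
      ext i j
      fin_cases i <;> fin_cases j <;> simp [L, h0, h1, hd]
    refine L_mem H ((u : M2) 1 0) ?_ (hu ▸ huH)
    intro h
    rw [h, L_zero] at hu
    exact hu1 hu
  rw [eq_top_iff]
  intro g _
  obtain ⟨x, hxE, hxd⟩ := exists_det_eq C E hfield hcard hE (g : M2).det
  have hgd : (g : M2).det ≠ 0 := by
    have : IsUnit (g : M2) := g.isUnit
    exact ((Matrix.isUnit_iff_isUnit_det _).mp this).ne_zero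
  have h2 : (x : M2) ∈ (E : Set M2) := hxE
  rw [hE] at h2
  rcases h2 with h2 | ⟨c, hcC, hc⟩
  · rw [h2, Matrix.det_zero] at hxd
    exact absurd hxd.symm hgd
  · have h3 : c⁻¹ * g ∈ H := by
      apply SL_mem H hU hL
      have h4 : (c : M2).det = (g : M2).det := by rw [← hxd, ← hc]
      have h5 : ((c : M2).det) * (((c⁻¹ * g : GL2) : M2).det) = (g : M2).det := by
        rw [← Matrix.det_mul, ← Units.val_mul, mul_inv_cancel_left]
      rw [h4] at h5
      exact mul_left_cancel₀ hgd (h5.trans (mul_one _).symm)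
    have h6 := H.mul_mem (hCH hcC) h3
    rwa [mul_inv_cancel_left] at h6

/-- There is a non-split Cartan subgroup. -/
theorem exists_cartan : ∃ (C : Subgroup GL2) (E : Subring M2),
    IsField E ∧ Nat.card E = p ^ 2 ∧
    (E : Set M2) = insert 0 ((fun g : GL2 => (g : M2)) '' (C : Set GL2)) := by
  let K := GaloisField p 2
  have hfr : Module.finrank (ZMod p) K = 2 := GaloisField.finrank p two_ne_zero
  let b : Module.Basis (Fin 2) (ZMod p) K := Module.finBasisOfFinrankEq (ZMod p) K hfr
  let f : K →+* M2 := (Algebra.leftMulMatrix b).toRingHom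
  have hf : Function.Injective f := Algebra.leftMulMatrix_injective b
  let e : K ≃+* f.range := RingEquiv.ofBijective f.rangeRestrict
    ⟨fun x y h => hf (congrArg Subtype.val h), f.rangeRestrict_surjective⟩
  refine ⟨(Units.map (f : K →* M2)).range, f.range, ?_, ?_, ?_⟩
  · exact MulEquiv.isField (Field.toIsField K) e.symm.toMulEquiv
  · rw [← Nat.card_congr e.toEquiv]
    exact GaloisField.card p 2 two_ne_zero
  · ext m
    constructor
    · rintro ⟨x, rfl⟩
      by_cases hx : x = 0
      · left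
        rw [hx, map_zero]
      · right
        exact ⟨Units.map (f : K →* M2) (Units.mk0 x hx), ⟨_, rfl⟩, rfl⟩
    · rintro (rfl | ⟨_, ⟨x, rfl⟩, rfl⟩)
      · exact f.range.zero_mem
      · exact ⟨x, rfl⟩

theorem dvd_card_top : p ∣ Nat.card (⊤ : Subgroup GL2) := by
  rw [Subgroup.card_top, Matrix.card_GL_field, Fin.prod_univ_two]
  apply Dvd.dvd.mul_left
  rw [ZMod.card]
  exact Nat.dvd_sub (dvd_pow_self p two_ne_zero) (dvd_pow_self p (by simp))

end K446.GL2p
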