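import Mathlib.NumberTheory.Padics.RingHoms
import Mathlib.LinearAlgebra.Matrix.GeneralLinearGroup.Defs
import Mathlib.Topology.Instances.Matrix
import Mathlib.Topology.Algebra.Group.Basic
import Mathlib.LinearAlgebra.Matrix.Notation
import Groth.Agent.GalCoh.K446.GL2p
import Mathlib.Analysis.SpecificLimits.Basic

/-!
# Closed subgroups of `GL₂(ℤ_p)`
-/

set_option autoImplicit false

open Matrix

namespace K446.GL2Zp

variable {p : ℕ} [Fact p.Prime]

local notation "MZ" => Matrix (Fin 2) (Fin 2) ℤ_[p]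
local notation "MF" => Matrix (Fin 2) (Fin 2) (ZMod p)
local notation "GZ" => GL (Fin 2) ℤ_[p]
local notation "GF" => GL (Fin 2) (ZMod p)

/-- Reduction of matrices. -/
noncomputable abbrev red (X : MZ) : MF := X.map (PadicInt.toZMod (p := p))

theorem red_mul (X Y : MZ) : red (X * Y) = red X * red Y := Matrix.map_mul

theorem red_add (X Y : MZ) : red (X + Y) = red X + red Y := by
  ext i j; simp [red]

theorem red_one : red (1 : MZ) = 1 := by
  ext i j; fin_cases i <;> fin_cases j <;> simp [red]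

theorem toZMod_surjective : Function.Surjective (PadicInt.toZMod (p := p)) := by
  intro x
  exact ⟨(x.val : ℤ_[p]), by rw [map_natCast, ZMod.natCast_zmod_val]⟩

theorem toZMod_eq_zero_iff (x : ℤ_[p]) : PadicInt.toZMod x = 0 ↔ (p : ℤ_[p]) ∣ x := by
  rw [← RingHom.mem_ker, PadicInt.ker_toZMod, PadicInt.maximalIdeal_eq_span_p,
    Ideal.mem_span_singleton]

theorem exists_of_red_eq_zero (X : MZ) (h : red X = 0) : ∃ Y : MZ, X = (p : ℤ_[p]) • Y := by
  have h1 : ∀ i j, (p : ℤ_[p]) ∣ X i j := fun i j => by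
    rw [← toZMod_eq_zero_iff]
    exact congrFun (congrFun h i) j
  choose Y hY using h1
  exact ⟨Matrix.of Y, by ext i j; simp [hY i j]⟩

theorem isUnit_of_red (x : ℤ_[p]) (h : PadicInt.toZMod x ≠ 0) : IsUnit x := by
  by_contra hx
  have : x ∈ IsLocalRing.maximalIdeal ℤ_[p] := hx
  rw [← PadicInt.ker_toZMod, RingHom.mem_ker] at this
  exact h this

theorem red_surjective_GL :
    Function.Surjective (Matrix.GeneralLinearGroup.map (n := Fin 2) (PadicInt.toZMod (p := p))) := by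
  intro g
  have h1 : ∀ i j, ∃ x : ℤ_[p], PadicInt.toZMod x = (g : MF) i j := fun i j => toZMod_surjective _
  choose X hX using h1
  have hr : red (Matrix.of X) = (g : MF) := by ext i j; exact hX i j
  have hdet : PadicInt.toZMod (Matrix.det (Matrix.of X)) ≠ 0 := by
    have h2 : PadicInt.toZMod (Matrix.det (Matrix.of X)) = (g : MF).det := by
      rw [← hr]
      exact RingHom.map_det _ _
    rw [h2]
    exact ((Matrix.isUnit_iff_isUnit_det _).mp g.isUnit).ne_zero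
  have hu : IsUnit (Matrix.of X : MZ) := (Matrix.isUnit_iff_isUnit_det _).mpr (isUnit_of_red _ hdet)
  refine ⟨hu.unit, ?_⟩
  ext i j
  exact hX i j

/-- `V H n`: the leading coefficients of elements of `H` congruent to `1` modulo `p ^ n`. -/
def V (H : Subgroup GZ) (n : ℕ) : Set MF :=
  {Y | ∃ u ∈ H, ∃ X : MZ, (u : MZ) = 1 + (p : ℤ_[p]) ^ n • X ∧ red X = Y}

theorem V_add (H : Subgroup GZ) (n : ℕ) (hn : 1 ≤ n) {Y Y' : MF} (h : Y ∈ V H n)
    (h' : Y' ∈ V H n) : Y + Y' ∈ V H n := by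
  obtain ⟨u, hu, X, hX, rfl⟩ := h
  obtain ⟨u', hu', X', hX', rfl⟩ := h'
  refine ⟨u * u', H.mul_mem hu hu', X + X' + (p : ℤ_[p]) ^ n • (X * X'), ?_, ?_⟩
  · rw [Units.val_mul, hX, hX']
    simp only [mul_add, add_mul, mul_one, one_mul, Matrix.smul_mul, Matrix.mul_smul, smul_add]
    abel
  · rw [red_add, red_add]
    have : red ((p : ℤ_[p]) ^ n • (X * X')) = 0 := by
      ext i j
      simp only [red, Matrix.map_apply, Matrix.smul_apply, smul_eq_mul, map_mul, map_pow,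
        map_natCast, CharP.cast_eq_zero]
      rw [zero_pow (by omega), zero_mul]
      rfl
    rw [this, add_zero]

theorem V_zero (H : Subgroup GZ) (n : ℕ) : (0 : MF) ∈ V H n :=
  ⟨1, H.one_mem, 0, by simp, by ext i j; simp [red]⟩

theorem V_nsmul (H : Subgroup GZ) (n : ℕ) (hn : 1 ≤ n) {Y : MF} (h : Y ∈ V H n) (m : ℕ) :
    m • Y ∈ V H n := by
  induction m with
  | zero => rw [zero_smul]; exact V_zero H n
  | succ m ih => rw [succ_nsmul]; exact V_add H n hn ih h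

theorem V_smul (H : Subgroup GZ) (n : ℕ) (hn : 1 ≤ n) {Y : MF} (h : Y ∈ V H n) (a : ZMod p) :
    a • Y ∈ V H n := by
  have h1 := V_nsmul H n hn h a.val
  rwa [← Nat.cast_smul_eq_nsmul (ZMod p), ZMod.natCast_zmod_val] at h1

theorem V_conj (H : Subgroup GZ) (n : ℕ) {Y : MF} (h : Y ∈ V H n) (g : GZ) (hg : g ∈ H) :
    red g * Y * red ((g⁻¹ : GZ) : MZ) ∈ V H n := by
  obtain ⟨u, hu, X, hX, rfl⟩ := h
  refine ⟨g * u * g⁻¹, H.mul_mem (H.mul_mem hg hu) (H.inv_mem hg),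
    (g : MZ) * X * ((g⁻¹ : GZ) : MZ), ?_, ?_⟩
  · rw [Units.val_mul, Units.val_mul, hX, mul_add, mul_one, add_mul, ← Units.val_mul,
      mul_inv_cancel, Units.val_one, mul_smul_comm, smul_mul_assoc]
  · rw [red_mul, red_mul]

theorem V_eq_univ (H : Subgroup GZ) (n : ℕ) (hn : 1 ≤ n)
    (hH : ∀ g : GF, ∃ h ∈ H, Matrix.GeneralLinearGroup.map (n := Fin 2) (PadicInt.toZMod (p := p)) h = g)
    (x : ZMod p) (hx : x ≠ 0) (h : (!![x, 0; 0, 0] : MF) ∈ V H n) (Y : MF) : Y ∈ V H n := by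
  have hconj : ∀ (Z : MF) (g : GF), Z ∈ V H n → (g : MF) * Z * ((g⁻¹ : GF) : MF) ∈ V H n := by
    intro Z g hZ
    obtain ⟨h, hh, rfl⟩ := hH g
    have := V_conj H n hZ h hh
    rw [← map_inv]
    exact this
  have h11 : ∀ a : ZMod p, (!![a, 0; 0, 0] : MF) ∈ V H n := by
    intro a
    have := V_smul H n hn h (a / x)
    have e : (a / x) • (!![x, 0; 0, 0] : MF) = !![a, 0; 0, 0] := by
      ext i j
      fin_cases i <;> fin_cases j <;> simp [hx]
    rwa [e] at this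
  have h12 : ∀ a : ZMod p, (!![0, a; 0, 0] : MF) ∈ V H n := by
    intro a
    have h1 := V_add H n hn (hconj _ (K446.GL2p.U a) (h11 (-1))) (h11 1)
    have e : ((K446.GL2p.U a : GF) : MF) * !![-1, 0; 0, 0] * (((K446.GL2p.U a)⁻¹ : GF) : MF) +
        !![1, 0; 0, 0] = !![0, a; 0, 0] := by
      have e1 : (((K446.GL2p.U a)⁻¹ : GF) : MF) = !![1, -a; 0, 1] := rfl
      have e2 : ((K446.GL2p.U a : GF) : MF) = !![1, a; 0, 1] := rfl
      rw [e1, e2]
      ext i j
      fin_cases i <;> fin_cases j <;> simp [Matrix.mul_apply, Fin.sum_univ_two]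
    rwa [e] at h1
  have h21 : ∀ a : ZMod p, (!![0, 0; a, 0] : MF) ∈ V H n := by
    intro a
    have h1 := V_add H n hn (hconj _ (K446.GL2p.L a) (h11 1)) (h11 (-1))
    have e : ((K446.GL2p.L a : GF) : MF) * !![1, 0; 0, 0] * (((K446.GL2p.L a)⁻¹ : GF) : MF) +
        !![-1, 0; 0, 0] = !![0, 0; a, 0] := by
      have e1 : (((K446.GL2p.L a)⁻¹ : GF) : MF) = !![1, 0; -a, 1] := rfl
      have e2 : ((K446.GL2p.L a : GF) : MF) = !![1, 0; a, 1] := rfl
      rw [e1, e2]
      ext i j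
      fin_cases i <;> fin_cases j <;> simp [Matrix.mul_apply, Fin.sum_univ_two]
    rwa [e] at h1
  have h22 : ∀ a : ZMod p, (!![0, 0; 0, a] : MF) ∈ V H n := by
    intro a
    let w : GF := ⟨!![0, 1; 1, 0], !![0, 1; 1, 0], by
      ext i j; fin_cases i <;> fin_cases j <;> simp [Matrix.mul_apply, Fin.sum_univ_two], by
      ext i j; fin_cases i <;> fin_cases j <;> simp [Matrix.mul_apply, Fin.sum_univ_two]⟩
    have h1 := hconj _ w (h11 a)
    have e : ((w : GF) : MF) * !![a, 0; 0, 0] * ((w⁻¹ : GF) : MF) = !![0, 0; 0, a] := by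
      have e1 : ((w⁻¹ : GF) : MF) = !![0, 1; 1, 0] := rfl
      have e2 : ((w : GF) : MF) = !![0, 1; 1, 0] := rfl
      rw [e1, e2]
      ext i j
      fin_cases i <;> fin_cases j <;> simp [Matrix.mul_apply, Fin.sum_univ_two]
    rwa [e] at h1
  have h2 := V_add H n hn (V_add H n hn (h11 (Y 0 0)) (h12 (Y 0 1)))
    (V_add H n hn (h21 (Y 1 0)) (h22 (Y 1 1)))
  convert h2 using 1
  ext i j
  fin_cases i <;> fin_cases j <;> simp

theorem approx (H : Subgroup GZ)
    (hH : ∀ g : GF, ∃ h ∈ H, Matrix.GeneralLinearGroup.map (n := Fin 2) (PadicInt.toZMod (p := p)) h = g)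
    (hV : ∀ n, 1 ≤ n → ∀ Y : MF, Y ∈ V H n) (g : GZ) (n : ℕ) :
    ∃ h ∈ H, ∃ X : MZ, (g : MZ) = (h : MZ) + (p : ℤ_[p]) ^ (n + 1) • X := by
  suffices hs : ∃ h ∈ H, ∃ X : MZ, ((h⁻¹ * g : GZ) : MZ) = 1 + (p : ℤ_[p]) ^ (n + 1) • X by
    obtain ⟨h, hh, X, hX⟩ := hs
    refine ⟨h, hh, (h : MZ) * X, ?_⟩
    have : (g : MZ) = (h : MZ) * ((h⁻¹ * g : GZ) : MZ) := by
      rw [← Units.val_mul, mul_inv_cancel_left]
    rw [this, hX, mul_add, mul_one, mul_smul_comm]
  induction n with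
  | zero =>
    obtain ⟨h, hh, hhg⟩ := hH (Matrix.GeneralLinearGroup.map (n := Fin 2) (PadicInt.toZMod (p := p)) g)
    have h1 : red (((h⁻¹ * g : GZ) : MZ) - 1) = 0 := by
      have h2 : Matrix.GeneralLinearGroup.map (n := Fin 2) (PadicInt.toZMod (p := p)) (h⁻¹ * g) = 1 := by
        rw [map_mul, map_inv, hhg, inv_mul_cancel]
      have h3 : red ((h⁻¹ * g : GZ) : MZ) = 1 := congrArg Units.val h2
      have h4 : red (((h⁻¹ * g : GZ) : MZ) - 1) + red 1 = red ((h⁻¹ * g : GZ) : MZ) := by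
        rw [← red_add, sub_add_cancel]
      rw [h3, red_one] at h4
      exact add_eq_right.mp h4
    obtain ⟨Y, hY⟩ := exists_of_red_eq_zero _ h1
    refine ⟨h, hh, Y, ?_⟩
    rw [zero_add, pow_one, ← hY, add_sub_cancel]
  | succ n ih =>
    obtain ⟨h, hh, X, hX⟩ := ih
    obtain ⟨u, hu, Z, hZ, hZX⟩ := hV (n + 1) (by omega) (red X)
    have h1 : red (X - Z) = 0 := by
      have h4 : red (X - Z) + red Z = red X := by
        rw [← red_add, sub_add_cancel]
      rw [hZX] at h4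
      exact add_eq_right.mp h4
    obtain ⟨Y, hY⟩ := exists_of_red_eq_zero _ h1
    refine ⟨h * u, H.mul_mem hh hu, ((u⁻¹ : GZ) : MZ) * Y, ?_⟩
    have h2 : ((h⁻¹ * g : GZ) : MZ) = (u : MZ) + (p : ℤ_[p]) ^ (n + 1 + 1) • Y := by
      rw [hX, hZ, pow_succ _ (n + 1), mul_smul, ← hY, smul_sub]
      abel
    rw [_root_.mul_inv_rev, mul_assoc, Units.val_mul, h2, mul_add, ← Units.val_mul, inv_mul_cancel,
      Units.val_one, mul_smul_comm]

theorem mem_closure_of_approx (S : Set MZ) (g : MZ)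
    (h : ∀ n : ℕ, ∃ s ∈ S, ∃ X : MZ, g = s + (p : ℤ_[p]) ^ (n + 1) • X) : g ∈ closure S := by
  choose s hs X hX using h
  refine mem_closure_of_tendsto (f := s) (b := Filter.atTop) ?_ (Filter.Eventually.of_forall hs)
  refine tendsto_pi_nhds.mpr fun i => tendsto_pi_nhds.mpr fun j => ?_
  rw [tendsto_iff_norm_sub_tendsto_zero]
  have hb : ∀ n : ℕ, ‖s n i j - g i j‖ ≤ ((p : ℝ)⁻¹) ^ (n + 1) := by
    intro n
    have h1 : s n i j - g i j = -((p : ℤ_[p]) ^ (n + 1) * X n i j) := by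
      have h2 : g i j = s n i j + (p : ℤ_[p]) ^ (n + 1) * X n i j := by
        conv_lhs => rw [hX n]
        rfl
      rw [h2]
      ring
    rw [h1, norm_neg, norm_mul, norm_pow, PadicInt.norm_p]
    exact mul_le_of_le_one_right (by positivity) (PadicInt.norm_le_one _)
  refine squeeze_zero (fun n => norm_nonneg _) hb ?_
  have h3 : Filter.Tendsto (fun n : ℕ => ((p : ℝ)⁻¹) ^ n) Filter.atTop (nhds 0) := by
    refine _root_.tendsto_pow_atTop_nhds_zero_of_lt_one (by positivity) ?_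
    exact inv_lt_one_of_one_lt₀ (by exact_mod_cast (Fact.out : p.Prime).one_lt)
  exact h3.comp (Filter.tendsto_add_atTop_nat 1)

end K446.GL2Zp
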