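import Mathlib.RepresentationTheory.Homological.GroupCohomology.Functoriality
import Mathlib.SetTheory.Cardinal.Finite

/-!
# A retraction of inflation on 1-cocycles
-/

set_option autoImplicit false

universe u

open CategoryTheory groupCohomology

namespace K446.InflRetr

variable {k G : Type u} [CommRing k] [Group G] (A : Rep.{u} k G) (P : Subgroup G) [P.Normal] [Finite P]
    (hP : Function.Bijective fun a : A => (Nat.card P : k) • a)

/-- Multiplication by the order of `P`. -/
noncomputable def e : A ≃ₗ[k] A :=
  LinearEquiv.ofBijective (LinearMap.lsmul k A (Nat.card P : k)) hP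

open scoped Classical in
/-- `x_f = - |P|⁻¹ ∑ f q`. -/
noncomputable def cen : cocycles₁ A →ₗ[k] A :=
  letI : Fintype P := Fintype.ofFinite P
  { toFun := fun f => (e A P hP).symm (-(∑ q : P, f (q : G)))
    map_add' := fun f g => by
      rw [← map_add]
      congr 1
      rw [← neg_add, ← Finset.sum_add_distrib]
      rfl
    map_smul' := fun c f => by
      rw [RingHom.id_apply, ← map_smul]
      congr 1
      rw [smul_neg, Finset.smul_sum]
      rfl }

omit [P.Normal] in
theorem cen_spec (f : cocycles₁ A) (q : P) : f (q : G) = A.ρ q (cen A P hP f) - cen A P hP f := by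
  classical
  let _ : Fintype P := Fintype.ofFinite P
  have h1 : e A P hP (cen A P hP f) = -(∑ q : P, f (q : G)) := (e A P hP).apply_symm_apply _
  have h1' : (Nat.card P : k) • (cen A P hP f) = -(∑ q : P, f (q : G)) := h1
  apply hP.1
  show (Nat.card P : k) • f (q : G) = (Nat.card P : k) • (A.ρ q (cen A P hP f) - cen A P hP f)
  rw [smul_sub, ← (A.ρ q).map_smul, h1', map_neg, map_sum]
  have h2 : ∀ s : P, A.ρ q (f (s : G)) = f ((q * s : P) : G) - f (q : G) := by
    intro s
    have := (mem_cocycles₁_iff f.1).1 f.2 (q : G) (s : G)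
    rw [Subgroup.coe_mul]
    exact eq_sub_of_add_eq this.symm
  simp only [h2, Finset.sum_sub_distrib]
  have h3 : ∑ s : P, f ((q * s : P) : G) = ∑ s : P, f (s : G) :=
    Equiv.sum_comp (Equiv.mulLeft q) (fun s : P => f (s : G))
  rw [h3, Finset.sum_const, Finset.card_univ, ← Nat.card_eq_fintype_card, Nat.cast_smul_eq_nsmul]
  abel

/-- The normalised cocycle. -/
noncomputable def norm (f : cocycles₁ A) (g : G) : A :=
  f g - (A.ρ g (cen A P hP f) - cen A P hP f)

omit [P.Normal] in
theorem norm_mul (f : cocycles₁ A) (g h : G) :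
    norm A P hP f (g * h) = A.ρ g (norm A P hP f h) + norm A P hP f g := by
  have := (mem_cocycles₁_iff f.1).1 f.2 g h
  have h1 : f (g * h) = A.ρ g (f h) + f g := this
  simp only [norm, h1, map_sub, map_mul, Module.End.mul_apply]
  abel

theorem norm_mem (f : cocycles₁ A) (q : P) : norm A P hP f q = 0 := by
  rw [norm, ← cen_spec, sub_self]

theorem norm_mul_right (f : cocycles₁ A) (g : G) (q : P) :
    norm A P hP f (g * q) = norm A P hP f g := by
  rw [norm_mul, norm_mem, map_zero, zero_add]

theorem norm_inv (f : cocycles₁ A) (g : G) (q : P) : A.ρ q (norm A P hP f g) = norm A P hP f g := by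
  have h1 := norm_mul A P hP f q g
  rw [norm_mem, add_zero] at h1
  rw [← h1]
  have h2 : (q : G) * g = g * ((⟨g⁻¹ * q * g, Subgroup.Normal.conj_mem' (inferInstance : P.Normal) (q : G) q.2 g⟩ : P) : G) := by
    show (q : G) * g = g * (g⁻¹ * q * g)
    group
  rw [h2, norm_mul_right]

theorem norm_eq (f : cocycles₁ A) (g h : G) (hgh : (g : G ⧸ P) = h) :
    norm A P hP f g = norm A P hP f h := by
  rw [QuotientGroup.eq] at hgh
  have : h = g * ((⟨g⁻¹ * h, hgh⟩ : P) : G) := by
    show h = g * (g⁻¹ * h)
    group
  rw [this, norm_mul_right]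

omit [P.Normal] in
theorem norm_add (f f' : cocycles₁ A) (g : G) :
    norm A P hP (f + f') g = norm A P hP f g + norm A P hP f' g := by
  simp only [norm, map_add]
  have : (f + f') g = f g + f' g := rfl
  rw [this]
  abel

omit [P.Normal] in
theorem norm_smul (c : k) (f : cocycles₁ A) (g : G) :
    norm A P hP (c • f) g = c • norm A P hP f g := by
  simp only [norm, map_smul]
  have : (c • f) g = c • f g := rfl
  rw [this, smul_sub, smul_sub]

/-- The retraction. -/
noncomputable def r : cocycles₁ A →ₗ[k] cocycles₁ (A.quotientToInvariants P) where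
  toFun f := ⟨fun q => ⟨norm A P hP f q.out, fun s => norm_inv A P hP f _ s⟩, by
    rw [mem_cocycles₁_iff]
    intro g h
    apply Subtype.ext
    show norm A P hP f (g * h).out = (((A.quotientToInvariants P).ρ g _ : _) : A) +
      norm A P hP f g.out
    rw [norm_eq A P hP f (g * h).out (g.out * h.out) (by
      rw [QuotientGroup.out_eq', QuotientGroup.mk_mul, QuotientGroup.out_eq',
        QuotientGroup.out_eq']), norm_mul]
    congr 1
    conv_rhs => rw [← QuotientGroup.out_eq' g]
    rfl⟩
  map_add' f f' := Subtype.ext (funext fun q => Subtype.ext (norm_add A P hP f f' _))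
  map_smul' c f := Subtype.ext (funext fun q => Subtype.ext (norm_smul A P hP c f _))

theorem coe_r (f : cocycles₁ A) (g : G) :
    ((r A P hP f (g : G ⧸ P) : (A.quotientToInvariants P)) : A) = norm A P hP f g :=
  norm_eq A P hP f _ _ (QuotientGroup.out_eq' _)

theorem norm_infl (c : cocycles₁ (A.quotientToInvariants P)) (f : cocycles₁ A)
    (hf : ∀ g : G, f g = ((c (g : G ⧸ P) : (A.quotientToInvariants P)) : A)) (g : G) :
    norm A P hP f g = f g := by
  have h0 : cen A P hP f = 0 := by
    classical
    let _ : Fintype P := Fintype.ofFinite P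
    have h1 : e A P hP (cen A P hP f) = -(∑ q : P, f (q : G)) := (e A P hP).apply_symm_apply _
    have h2 : ∀ q : P, f (q : G) = 0 := by
      intro q
      rw [hf, (QuotientGroup.eq_one_iff (q : G)).mpr q.2, cocycles₁_map_one]
      rfl
    rw [Finset.sum_eq_zero (fun q _ => h2 q), neg_zero] at h1
    exact (LinearEquiv.map_eq_zero_iff _).mp h1
  rw [norm, h0, map_zero, sub_zero, sub_zero]

theorem comp_r : (mapCocycles₁ (QuotientGroup.mk' P) (Rep.ofHom (A.ρ.quotientToInvariants_lift P)) :
          ModuleCat.of k (groupCohomology.cocycles₁ (A.quotientToInvariants P)) ⟶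
            ModuleCat.of k (groupCohomology.cocycles₁ A)) ≫ ModuleCat.ofHom (r A P hP) = 𝟙 _ := by
  refine ModuleCat.hom_ext (LinearMap.ext fun c => ?_)
  refine cocycles₁_ext fun q => ?_
  induction q using QuotientGroup.induction_on with | @H g =>
  apply Subtype.ext
  set f : cocycles₁ A := (mapCocycles₁ (QuotientGroup.mk' P)
    (Rep.ofHom (A.ρ.quotientToInvariants_lift P)) :
      ModuleCat.of k (groupCohomology.cocycles₁ (A.quotientToInvariants P)) ⟶
            ModuleCat.of k (groupCohomology.cocycles₁ A)) c with hf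
  have h1 : ∀ g : G, f g = ((c (g : G ⧸ P) : (A.quotientToInvariants P)) : A) := fun g => rfl
  show ((r A P hP f (g : G ⧸ P) : (A.quotientToInvariants P)) : A) =
    ((c (g : G ⧸ P) : (A.quotientToInvariants P)) : A)
  rw [coe_r, norm_infl A P hP c f h1, h1]

end K446.InflRetr
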