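import Mathlib.FieldTheory.Galois.Infinite
import Mathlib.FieldTheory.IsSepClosed
import Mathlib.RepresentationTheory.Homological.GroupCohomology.Hilbert90
import Mathlib.RingTheory.Trace.Basic
import Mathlib.Topology.LocallyConstant.Basic

/-!
# Locally constant 1-cocycles of an absolute Galois group

A locally constant cocycle of `Gal(L/K)` (`L/K` Galois, possibly infinite) with values in `L` or `Lˣ`
comes from a finite Galois subextension, hence is a coboundary.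
-/

set_option autoImplicit false

namespace K446.LC

open IntermediateField

variable {K L : Type*} [Field K] [Field L] [Algebra K L] [IsGalois K L]

theorem exists_level {X : Type*} (a : (L ≃ₐ[K] L) → X) (hlc : IsLocallyConstant a) :
    ∃ E : IntermediateField K L, FiniteDimensional K E ∧ Normal K E ∧
      ∀ σ ∈ E.fixingSubgroup, a σ = a 1 := by
  have h := (krullTopology_mem_nhds_one_iff_of_normal K L (a ⁻¹' {a 1})).mp
    ((hlc {a 1}).mem_nhds rfl)
  obtain ⟨E, h1, h2, h3⟩ := h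
  exact ⟨E, h1, h2, fun σ hσ => h3 hσ⟩

omit [IsGalois K L] in
theorem conj_mem (E : IntermediateField K L) [Normal K E] (σ τ : L ≃ₐ[K] L)
    (hτ : τ ∈ E.fixingSubgroup) : σ⁻¹ * τ * σ ∈ E.fixingSubgroup := by
  rw [← IntermediateField.restrictNormalHom_ker, MonoidHom.mem_ker] at hτ ⊢
  rw [map_mul, map_mul, hτ, mul_one, map_inv, inv_mul_cancel]

/-- A function on `Gal(L/K)` which is right `N`-invariant and satisfies `a (τ σ) = τ (a σ)` for `τ ∈ N`
descends to a function `Gal(E/K) → E`. -/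
theorem descend (a : (L ≃ₐ[K] L) → L) (E : IntermediateField K L) [Normal K E]
    (h1 : ∀ σ τ : L ≃ₐ[K] L, τ ∈ E.fixingSubgroup → a (σ * τ) = a σ)
    (h2 : ∀ τ σ : L ≃ₐ[K] L, τ ∈ E.fixingSubgroup → a (τ * σ) = τ (a σ)) :
    ∃ a' : (E ≃ₐ[K] E) → E, ∀ σ : L ≃ₐ[K] L,
      ((a' (AlgEquiv.restrictNormalHom E σ) : E) : L) = a σ := by
  have hmem : ∀ σ, a σ ∈ E := by
    intro σ
    rw [← InfiniteGalois.fixedField_fixingSubgroup E, IntermediateField.mem_fixedField_iff]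
    intro τ hτ
    rw [← h2 τ σ hτ]
    have : τ * σ = σ * (σ⁻¹ * τ * σ) := by group
    rw [this]
    exact h1 _ _ (conj_mem E σ τ hτ)
  have hs : Function.Surjective (AlgEquiv.restrictNormalHom E : (L ≃ₐ[K] L) → (E ≃ₐ[K] E)) :=
    AlgEquiv.restrictNormalHom_surjective L
  refine ⟨fun g => ⟨a (Function.surjInv hs g), hmem _⟩, fun σ => ?_⟩
  show a (Function.surjInv hs (AlgEquiv.restrictNormalHom E σ)) = a σ
  set σ' := Function.surjInv hs (AlgEquiv.restrictNormalHom E σ) with hσ'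
  have e : AlgEquiv.restrictNormalHom E σ' = AlgEquiv.restrictNormalHom E σ :=
    Function.surjInv_eq hs _
  have hk : σ⁻¹ * σ' ∈ E.fixingSubgroup := by
    rw [← IntermediateField.restrictNormalHom_ker, MonoidHom.mem_ker, map_mul, map_inv, e,
      inv_mul_cancel]
  have := h1 σ _ hk
  rw [mul_inv_cancel_left] at this
  exact this

theorem units_coboundary (a : (L ≃ₐ[K] L) → Lˣ)
    (ha : ∀ σ τ : L ≃ₐ[K] L, a (σ * τ) = a σ * σ • a τ) (hlc : IsLocallyConstant a) :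
    ∃ c : Lˣ, ∀ σ : L ≃ₐ[K] L, a σ = c⁻¹ * σ • c := by
  have ha1 : a 1 = 1 := by
    have := ha 1 1
    rw [one_smul, mul_one] at this
    exact (mul_eq_left.mp this.symm)
  obtain ⟨E, hfin, hnor, hE⟩ := exists_level a hlc
  have h1 : ∀ σ τ : L ≃ₐ[K] L, τ ∈ E.fixingSubgroup → a (σ * τ) = a σ := by
    intro σ τ hτ
    rw [ha, hE τ hτ, ha1, smul_one, mul_one]
  have h2 : ∀ τ σ : L ≃ₐ[K] L, τ ∈ E.fixingSubgroup → a (τ * σ) = τ • a σ := by
    intro τ σ hτ
    rw [ha, hE τ hτ, ha1, one_mul]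
  obtain ⟨a', ha'⟩ := descend (fun σ => (a σ : L)) E (fun σ τ hτ => by rw [h1 σ τ hτ])
    (fun τ σ hτ => by rw [h2 τ σ hτ]; rfl)
  have hs : Function.Surjective (AlgEquiv.restrictNormalHom E : (L ≃ₐ[K] L) → (E ≃ₐ[K] E)) :=
    AlgEquiv.restrictNormalHom_surjective L
  have hne : ∀ g, a' g ≠ 0 := by
    intro g h
    obtain ⟨σ, rfl⟩ := hs g
    have := ha' σ
    rw [h] at this
    exact (a σ).ne_zero this.symm
  have hres : ∀ (σ : L ≃ₐ[K] L) (x : E),
      ((AlgEquiv.restrictNormalHom E σ x : E) : L) = σ (x : L) := fun σ x =>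
    AlgEquiv.restrictNormal_commutes σ E x
  have hcoc : groupCohomology.IsMulCocycle₁ (fun g : (E ≃ₐ[K] E) => Units.mk0 (a' g) (hne g)) := by
    intro g h
    obtain ⟨σ, rfl⟩ := hs g
    obtain ⟨τ, rfl⟩ := hs h
    ext
    rw [Units.val_mul, Units.val_mk0, Units.val_mk0, AlgEquiv.smul_units_def, Units.coe_map,
      Units.val_mk0]
    rw [← map_mul, ha']
    show _ = ((AlgEquiv.restrictNormalHom E σ (a' _) : E) : L) * ((a' _ : E) : L)
    rw [hres, ha', ha', ha, Units.val_mul, mul_comm]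
    rfl
  obtain ⟨β, hβ⟩ := groupCohomology.isMulCoboundary₁_of_isMulCocycle₁_of_aut_to_units _ hcoc
  refine ⟨Units.map (algebraMap E L : E →* L) β, fun σ => ?_⟩
  have h3 := congrArg (Units.map (algebraMap E L : E →* L)) (hβ (AlgEquiv.restrictNormalHom E σ))
  rw [map_div] at h3
  rw [← div_eq_inv_mul]
  ext
  have h4 := congrArg Units.val h3
  rw [Units.val_div_eq_div_val] at h4 ⊢
  have h5 : (a σ : L) = algebraMap E L (a' (AlgEquiv.restrictNormalHom E σ)) := (ha' σ).symm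
  rw [h5]
  refine Eq.trans h4.symm ?_
  congr 1
  show ((AlgEquiv.restrictNormalHom E σ (β : E) : E) : L) = σ _
  rw [hres]
  rfl

theorem additive_coboundary (a : (L ≃ₐ[K] L) → L)
    (ha : ∀ σ τ : L ≃ₐ[K] L, a (σ * τ) = a σ + σ (a τ)) (hlc : IsLocallyConstant a) :
    ∃ y : L, ∀ σ : L ≃ₐ[K] L, a σ = σ y - y := by
  have ha1 : a 1 = 0 := by
    have := ha 1 1
    rw [mul_one] at this
    have h : (1 : L ≃ₐ[K] L) (a 1) = a 1 := rfl
    rw [h] at this
    simpa using this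
  obtain ⟨E, hfin, hnor, hE⟩ := exists_level a hlc
  have h1 : ∀ σ τ : L ≃ₐ[K] L, τ ∈ E.fixingSubgroup → a (σ * τ) = a σ := by
    intro σ τ hτ
    rw [ha, hE τ hτ, ha1, map_zero, add_zero]
  have h2 : ∀ τ σ : L ≃ₐ[K] L, τ ∈ E.fixingSubgroup → a (τ * σ) = τ (a σ) := by
    intro τ σ hτ
    rw [ha, hE τ hτ, ha1, zero_add]
  obtain ⟨a', ha'⟩ := descend a E h1 h2
  have hs : Function.Surjective (AlgEquiv.restrictNormalHom E : (L ≃ₐ[K] L) → (E ≃ₐ[K] E)) :=
    AlgEquiv.restrictNormalHom_surjective L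
  have hres : ∀ (σ : L ≃ₐ[K] L) (x : E),
      ((AlgEquiv.restrictNormalHom E σ x : E) : L) = σ (x : L) := fun σ x =>
    AlgEquiv.restrictNormal_commutes σ E x
  have hcoc : ∀ g h : E ≃ₐ[K] E, a' (g * h) = a' g + g (a' h) := by
    intro g h
    obtain ⟨σ, rfl⟩ := hs g
    obtain ⟨τ, rfl⟩ := hs h
    apply Subtype.ext
    rw [← map_mul, ha', ha]
    show _ = ((a' _ : E) : L) + ((AlgEquiv.restrictNormalHom E σ (a' _) : E) : L)
    rw [hres, ha', ha']
  have : IsGalois K E := ⟨⟩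
  obtain ⟨θ, hθ⟩ := Algebra.trace_surjective K E 1
  have htr : ∑ g : E ≃ₐ[K] E, g θ = 1 := by
    rw [← trace_eq_sum_automorphisms θ, hθ, map_one]
  let y : E := -∑ g : E ≃ₐ[K] E, a' g * g θ
  have hy : ∀ g : E ≃ₐ[K] E, a' g = g y - y := by
    intro g
    have e1 : g y = -∑ h : E ≃ₐ[K] E, (a' (g * h) - a' g) * (g * h) θ := by
      show g (-∑ h : E ≃ₐ[K] E, a' h * h θ) = _
      rw [map_neg, map_sum]
      congr 1
      refine Finset.sum_congr rfl fun h _ => ?_
      rw [map_mul, hcoc g h, add_sub_cancel_left]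
      rfl
    have e2 : ∑ h : E ≃ₐ[K] E, (a' (g * h) - a' g) * (g * h) θ
        = ∑ h : E ≃ₐ[K] E, (a' h - a' g) * h θ :=
      Fintype.sum_bijective (fun i => g * i) (Group.mulLeft_bijective g) _ _ (fun i => rfl)
    rw [e1, e2]
    show a' g = -∑ h : E ≃ₐ[K] E, (a' h - a' g) * h θ - -∑ h : E ≃ₐ[K] E, a' h * h θ
    simp only [sub_mul, Finset.sum_sub_distrib, ← Finset.mul_sum, htr]
    ring
  refine ⟨(y : L), fun σ => ?_⟩
  rw [← ha' σ, hy, ← hres]
  rfl

end K446.LC
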