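import Groth.Agent.GalCoh.K446.Cyclic
import Mathlib.RingTheory.TensorProduct.Basic
import Mathlib.RingTheory.Flat.Basic

/-!
# Descent of free modules of rank one along a finite field extension

`A` a finite-dimensional algebra over `k`, `K/k` finite, `M` a module over `K` and `A`.  If `A → M` and
`W → M` both induce isomorphisms after base change to `K` (over the centre), then `W` is a cyclic `A`-module.
-/

set_option autoImplicit false

open Module TensorProduct

namespace K446.NoethDeur

universe u v w x y

variable {k : Type u} {K : Type v} {A : Type w} [Field k] [Field K] [Algebra k K] [FiniteDimensional k K]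
  [Ring A] [Algebra k A]
variable {M : Type x} [AddCommGroup M] [Module K M] [Module A M] [Module k M] [IsScalarTower k K M]
  [IsScalarTower k A M] [SMulCommClass K A M]

/-- The sum map `(w_i) ↦ ∑ λ_i • ι (w_i)`. -/
noncomputable def sumMap {W : Type y} [AddCommGroup W] [Module A W] {n : ℕ} (l : Fin n → K)
    (ι : W →ₗ[A] M) : (Fin n → W) →ₗ[A] M :=
  ∑ i, (DistribSMul.toLinearMap A M (l i)) ∘ₗ ι ∘ₗ LinearMap.proj i

theorem sumMap_apply {W : Type y} [AddCommGroup W] [Module A W] {n : ℕ} (l : Fin n → K)
    (ι : W →ₗ[A] M) (w : Fin n → W) : sumMap l ι w = ∑ i, l i • ι (w i) := by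
  simp only [sumMap, LinearMap.sum_apply]
  rfl

omit [FiniteDimensional k K] in
theorem sumMap_bijective {W : Type y} [AddCommGroup W] [Module A W] [Module k W] [IsScalarTower k A W]
    {n : ℕ} (b : Basis (Fin n) k K) (ι : W →ₗ[A] M)
    (hι : Function.Bijective ((ι.restrictScalars k).liftBaseChange K)) :
    Function.Bijective (sumMap b ι) := by
  let e : (Fin n → W) ≃ₗ[k] K ⊗[k] W :=
    (Finsupp.linearEquivFunOnFinite k W (Fin n)).symm ≪≫ₗ
      (TensorProduct.equivFinsuppOfBasisLeft b).symm
  have h : ∀ w, sumMap b ι w = (ι.restrictScalars k).liftBaseChange K (e w) := by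
    intro w
    rw [sumMap_apply]
    show _ = (ι.restrictScalars k).liftBaseChange K ((TensorProduct.equivFinsuppOfBasisLeft b).symm
      ((Finsupp.linearEquivFunOnFinite k W (Fin n)).symm w))
    rw [TensorProduct.equivFinsuppOfBasisLeft_symm_apply, Finsupp.sum_fintype _ _ (by simp), map_sum]
    refine Finset.sum_congr rfl fun i _ => ?_
    rw [LinearMap.liftBaseChange_tmul]
    rfl
  have : (sumMap b ι : (Fin n → W) → M) = (ι.restrictScalars k).liftBaseChange K ∘ e := funext h
  rw [this]
  exact hι.comp e.bijective

theorem finrank_hom_eq {W : Type y} [AddCommGroup W] [Module A W] [Module k W] [IsScalarTower k A W]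
    [FiniteDimensional k W] (ι : W →ₗ[A] M)
    (hι : Function.Bijective ((ι.restrictScalars k).liftBaseChange K))
    (T : Type*) [AddCommGroup T] [Module A T] [Module k T] [IsScalarTower k A T] [FiniteDimensional k T] :
    finrank k (M →ₗ[A] T) = finrank k K * finrank k (W →ₗ[A] T) := by
  have hfin : FiniteDimensional k (W →ₗ[A] T) :=
    FiniteDimensional.of_injective (LinearMap.restrictScalarsₗ k A W T k)
      (LinearMap.restrictScalars_injective k)
  let b : Basis (Fin (finrank k K)) k K := Module.finBasis k K
  let g : (Fin (finrank k K) → W) ≃ₗ[A] M := LinearEquiv.ofBijective _ (sumMap_bijective b ι hι)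
  let g' : (M →ₗ[A] T) ≃ₗ[k] ((Fin (finrank k K) → W) →ₗ[A] T) :=
    { toFun := fun f => f ∘ₗ g.toLinearMap
      map_add' := fun _ _ => rfl
      map_smul' := fun _ _ => rfl
      invFun := fun f => f ∘ₗ g.symm.toLinearMap
      left_inv := fun f => by ext x; simp
      right_inv := fun f => LinearMap.ext fun x => by simp }
  rw [g'.finrank_eq, ← (LinearMap.lsum A (fun _ : Fin (finrank k K) => W) k).finrank_eq,
    Module.finrank_pi_fintype]
  simp

/-- `W` is cyclic if its base change is isomorphic to that of `A`. -/
theorem exists_generator [FiniteDimensional k A] (α : A →ₗ[A] M)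
    (hα : Function.Bijective ((α.restrictScalars k).liftBaseChange K))
    {W : Type y} [AddCommGroup W] [Module A W] [Module k W] [IsScalarTower k A W]
    [FiniteDimensional k W] (ι : W →ₗ[A] M)
    (hι : Function.Bijective ((ι.restrictScalars k).liftBaseChange K)) :
    ∃ b : W, (A ∙ b) = ⊤ := by
  refine K446.Cyclic.exists_generator (k := k) fun T _ _ _ _ _ _ => ?_
  have h1 := finrank_hom_eq α hα T
  have h2 := finrank_hom_eq ι hι T
  rw [h2] at h1
  have h3 : finrank k (A →ₗ[A] T) = finrank k T :=
    (LinearMap.ringLmapEquivSelf A k T).finrank_eq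
  rw [h3] at h1
  exact (Nat.eq_of_mul_eq_mul_left finrank_pos h1).le

end K446.NoethDeur
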