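import Groth.Agent.GalCoh.K446.NoethDeur
import Groth.Agent.GalCoh.K446.Delta
import Groth.Agent.GalCoh.K447.Descent
import Groth.Prelude.Def_GSzCSA
import Mathlib.RingTheory.Artinian.Module

/-!
# Hilbert 90 for the unit group of a finite-dimensional algebra
-/

set_option autoImplicit false

open scoped TensorProduct

attribute [local instance] CSAGal.tensorAction GpH1.unitsAction

namespace K446.UnitsBC

open K447.Descent Module

universe u v w

variable {k : Type u} {K : Type v} [Field k] [Field K] [Algebra k K] [FiniteDimensional k K] [IsGalois k K]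
  {A : Type w} [Ring A] [Algebra k A]

/-- `A` acts on `K ⊗ A` by left multiplication through the second factor. -/
@[reducible] noncomputable def modA (k : Type u) (K : Type v) [Field k] [Field K] [Algebra k K]
    (A : Type w) [Ring A] [Algebra k A] : Module A (K ⊗[k] A) :=
  Module.compHom (K ⊗[k] A) (Algebra.TensorProduct.includeRight : A →ₐ[k] K ⊗[k] A).toRingHom

attribute [local instance] modA

omit [FiniteDimensional k K] [IsGalois k K] in
theorem smul_def (a : A) (x : K ⊗[k] A) : a • x = ((1 : K) ⊗ₜ[k] a) * x := rfl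

instance instTower : IsScalarTower k A (K ⊗[k] A) where
  smul_assoc c a x := by
    rw [smul_def, smul_def, TensorProduct.tmul_smul, smul_mul_assoc]

instance instComm : SMulCommClass K A (K ⊗[k] A) where
  smul_comm c a x := by
    rw [smul_def, smul_def, mul_smul_comm]

omit [FiniteDimensional k K] [IsGalois k K] in
theorem isSemi (a : (K ≃ₐ[k] K) → (K ⊗[k] A)ˣ) (ha : GpH1.IsOneCocycle a) :
    IsSemi (k := k) (K := K) (fun σ (x : K ⊗[k] A) => σ • x * (((a σ)⁻¹ : (K ⊗[k] A)ˣ) : K ⊗[k] A)) where
  one x := by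
    have h1 : a 1 = 1 := by
      have h := ha 1 1
      rw [mul_one, one_smul] at h
      exact mul_eq_left.mp h.symm
    rw [h1, inv_one, Units.val_one, mul_one, one_smul]
  mul σ τ x := by
    rw [ha σ τ, mul_inv_rev, Units.val_mul, ← mul_assoc, smul_mul', mul_smul, ← smul_inv']
    rfl
  add σ x y := by rw [smul_add, add_mul]
  smul σ c x := by
    rw [← smul_mul_assoc]
    congr 1
    induction x using TensorProduct.induction_on with
    | zero => simp
    | add x y hx hy => simp only [smul_add, hx, hy]
    | tmul d y =>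
      rw [TensorProduct.smul_tmul', TensorProduct.smul_tmul', TensorProduct.smul_tmul',
        TensorProduct.smul_tmul', smul_eq_mul, smul_mul']
      rfl

theorem exists_unit [FiniteDimensional k A] (a : (K ≃ₐ[k] K) → (K ⊗[k] A)ˣ) (ha : GpH1.IsOneCocycle a) :
    ∃ c : (K ⊗[k] A)ˣ, ∀ σ, a σ = c⁻¹ * σ • c := by
  have hs := isSemi a ha
  let W : Submodule A (K ⊗[k] A) :=
    { carrier := {x | ∀ σ : K ≃ₐ[k] K, σ • x * (((a σ)⁻¹ : (K ⊗[k] A)ˣ) : K ⊗[k] A) = x}
      add_mem' := by
        intro x y hx hy σ
        rw [smul_add, add_mul, hx σ, hy σ]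
      zero_mem' := fun σ => by rw [smul_zero, zero_mul]
      smul_mem' := by
        intro b x hx σ
        rw [smul_def, smul_mul', mul_assoc, hx σ, TensorProduct.smul_tmul', smul_one] }
  have hb := bijective_liftBaseChange hs (W.subtype.restrictScalars k) W.injective_subtype (fun m => by
    constructor
    · rintro ⟨w, rfl⟩ σ
      exact w.2 σ
    · intro h
      exact ⟨⟨m, h⟩, rfl⟩)
  let α : A →ₗ[A] (K ⊗[k] A) :=
    { toFun := fun x => (1 : K) ⊗ₜ[k] x
      map_add' := fun x y => TensorProduct.tmul_add _ _ _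
      map_smul' := fun b x => by
        rw [RingHom.id_apply, smul_def, Algebra.TensorProduct.tmul_mul_tmul, one_mul, smul_eq_mul] }
  have hα : Function.Bijective ((α.restrictScalars k).liftBaseChange K) := by
    have : (α.restrictScalars k).liftBaseChange K = LinearMap.id := by
      refine LinearMap.ext fun z => ?_
      induction z using TensorProduct.induction_on with
      | zero => simp
      | add x y hx hy => rw [map_add, map_add, hx, hy]
      | tmul c y =>
        rw [LinearMap.liftBaseChange_tmul]
        show c • ((1 : K) ⊗ₜ[k] y) = c ⊗ₜ[k] y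
        rw [TensorProduct.smul_tmul', smul_eq_mul, mul_one]
    rw [this]
    exact Function.bijective_id
  have hfW : FiniteDimensional k W :=
    FiniteDimensional.finiteDimensional_submodule (W.restrictScalars k)
  obtain ⟨b, hb2⟩ := K446.NoethDeur.exists_generator α hα W.subtype hb
  have h1 : ∀ z : K ⊗[k] W, ∃ r : K ⊗[k] A,
      (W.subtype.restrictScalars k).liftBaseChange K z = r * (b : K ⊗[k] A) := by
    intro z
    induction z using TensorProduct.induction_on with
    | zero => exact ⟨0, by simp⟩
    | add x y hx hy =>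
      obtain ⟨r, hr⟩ := hx
      obtain ⟨s, hs⟩ := hy
      exact ⟨r + s, by rw [map_add, hr, hs, add_mul]⟩
    | tmul c w =>
      have hw : w ∈ (A ∙ b) := by rw [hb2]; trivial
      obtain ⟨d, rfl⟩ := Submodule.mem_span_singleton.mp hw
      refine ⟨c ⊗ₜ[k] d, ?_⟩
      rw [LinearMap.liftBaseChange_tmul]
      show c • (d • (b : K ⊗[k] A)) = _
      rw [smul_def, ← smul_mul_assoc, TensorProduct.smul_tmul', smul_eq_mul, mul_one]
  obtain ⟨z, hz⟩ := hb.2 1
  obtain ⟨r, hr⟩ := h1 z
  rw [hz] at hr
  have hart : IsArtinianRing (K ⊗[k] A) := isArtinian_of_tower k inferInstance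
  have hr' : (b : K ⊗[k] A) * r = 1 := mul_eq_one_symm hr.symm
  let c : (K ⊗[k] A)ˣ := ⟨b, r, hr', hr.symm⟩
  refine ⟨c, fun σ => ?_⟩
  have h2 : σ • c * (a σ)⁻¹ = c := Units.ext (b.2 σ)
  rw [eq_inv_mul_iff_mul_eq, ← mul_inv_eq_iff_eq_mul.mp h2]

end K446.UnitsBC
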